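import Cfsg.Agent.Omega.IId.Cv.Main
import Cfsg.Agent.Omega.IId.Cv.SplitTwo
import Cfsg.Agent.Omega.IId.SwCv.Lab
import Cfsg.Agent.Omega.F4Leaf.NoWrFree
import Cfsg.Agent.Omega.FF.TvThm

/-!
# II.d, `SwCv`, T-T: the exits (#21574 helper644; helper392)

A mutual pair `(R, R^g)` over a Sylow 2-subgroup `S` with `|[V_R, V_R^g]| = 2`, `C_{V_R}(O²(R)) ≠ 1` and
`|V_R| ≤ 16 |C_{V_R}(O²(R))|`: `R` is of type natural (`q = 2`, one or two factors) or `S₅`, and `G` is known
(`exit_small`).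

* `card_nat_le`, `card_sym_eq` : the orders of the modules;
* `exists_pair_comm` : normal position keeps `|[V, V']|`;
* `five_known`, `nat_one_known`, `nat_two_known` : the three types;
* `exit_small`.
-/

set_option autoImplicit false
set_option linter.unusedSectionVars false

namespace Cfsg.Agent.Omega.IId.CvT

open Subgroup Pointwise Cfsg Cfsg.Agent.ZN Cfsg.Agent.ZN.ChoiceBase
open Cfsg.Agent.Omega.MinPar Cfsg.Agent.Omega.Frame Cfsg.Agent.Omega.FFThm Cfsg.Agent.Omega.FrameMulti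
open Cfsg.Agent.Omega.FrameLE (AllIn)
open Cfsg.Agent.Omega.FrameFF (cv Free)
open Cfsg.Agent.Omega.HOne.Main (vx SplitPar)
open Cfsg.Agent.Omega.NatPair (ap)
open Cfsg.Agent.Lib.SL2Mat
open Cfsg.Agent.Omega.IId.Cv
open Cfsg.Agent.Omega.F4Leaf.Cen.Main (PosExit)
open scoped commutatorElement

universe u

/-! ### The orders of the modules -/

section card

variable {G : Type u} [Group G] [Finite G] {T H V D : Subgroup G}

/-- `|F|^(2k) |D| ≤ |V|` -/
theorem card_nat_le {F : Type} [Field F] [Finite F] {k : ℕ} (M : NatK F T H V D k) (hD : D ≤ V) :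
    Nat.card F ^ (2 * k) * Nat.card D ≤ Nat.card V := by
  classical
  choose s hs hse using M.surj
  let f : (Fin k → Fin 2 → F) × D → V := fun p => ⟨s p.1 * p.2, mul_mem (hs p.1) (hD p.2.2)⟩
  have hf : Function.Injective f := by
    rintro ⟨x, d⟩ ⟨y, d'⟩ hxy
    have e0 : s x * (d : G) = s y * (d' : G) := congrArg Subtype.val hxy
    have e1 := congrArg M.e e0
    rw [M.mul _ (hs x) _ (hD d.2), M.mul _ (hs y) _ (hD d'.2), hse, hse, (M.ker _ (hD d.2)).2 d.2,
      (M.ker _ (hD d'.2)).2 d'.2, add_zero, add_zero] at e1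
    subst e1
    exact Prod.ext rfl (Subtype.ext (mul_left_cancel e0))
  have h2 := Nat.card_le_card_of_injective f hf
  rw [Nat.card_prod, Nat.card_fun, Nat.card_fun, Nat.card_fin, Nat.card_fin, ← pow_mul] at h2
  exact h2

theorem e_one {k m : ℕ} (M : SymK T H V D k m) : M.e 1 = 0 := by
  have h1 := M.mul 1 (one_mem _) 1 (one_mem _)
  rw [mul_one] at h1
  simpa using h1

theorem e_inv {k m : ℕ} (M : SymK T H V D k m) {v : G} (hv : v ∈ V) : M.e v⁻¹ = - M.e v := by
  have h1 := M.mul v hv v⁻¹ (inv_mem hv)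
  rw [mul_inv_cancel, e_one M] at h1
  exact (neg_eq_of_add_eq_zero_right h1.symm).symm

/-- `|V| = 2^(k 2^m) |D|` -/
theorem card_sym_eq {k m : ℕ} (M : SymK T H V D k m) (hD : D ≤ V) :
    Nat.card V = (2 ^ 2 ^ m) ^ k * Nat.card D := by
  classical
  let c : (Fin (2 ^ m) → ZMod 2) → Fin (2 ^ m + 1) → ZMod 2 := fun y => Fin.cons (∑ x, y x) y
  have hc : ∀ y, ∑ x, c y x = 0 := fun y => by
    rw [Fin.sum_univ_succ]
    simp only [c, Fin.cons_zero, Fin.cons_succ]
    exact CharTwo.add_self_eq_zero _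
  choose s hs hse using fun y : Fin k → Fin (2 ^ m) → ZMod 2 => M.surj (fun i => c (y i)) fun i => hc (y i)
  let f : (Fin k → Fin (2 ^ m) → ZMod 2) × D → V := fun p => ⟨s p.1 * p.2, mul_mem (hs p.1) (hD p.2.2)⟩
  have hf : Function.Bijective f := by
    constructor
    · rintro ⟨x, d⟩ ⟨y, d'⟩ hxy
      have e0 : s x * (d : G) = s y * (d' : G) := congrArg Subtype.val hxy
      have e1 := congrArg M.e e0
      rw [M.mul _ (hs x) _ (hD d.2), M.mul _ (hs y) _ (hD d'.2), hse, hse, (M.ker _ (hD d.2)).2 d.2,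
        (M.ker _ (hD d'.2)).2 d'.2, add_zero, add_zero] at e1
      have e2 : x = y := by
        funext i a
        have := congrFun (congrFun e1 i) a.succ
        simpa [c] using this
      subst e2
      exact Prod.ext rfl (Subtype.ext (mul_left_cancel e0))
    · rintro ⟨v, hv⟩
      let y : Fin k → Fin (2 ^ m) → ZMod 2 := fun i a => M.e v i a.succ
      have h1 : M.e (s y) = M.e v := by
        rw [hse]
        funext i a
        refine Fin.cases ?_ (fun a => ?_) a
        · have h2 := M.even v hv i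
          rw [Fin.sum_univ_succ] at h2
          change ∑ x, y i x = M.e v i 0
          have h3 : ∀ a b : ZMod 2, a + b = 0 → b = a := by decide
          exact h3 _ _ h2
        · rfl
      have h2 : (s y)⁻¹ * v ∈ D := by
        rw [← M.ker _ (mul_mem (inv_mem (hs y)) hv), M.mul _ (inv_mem (hs y)) _ hv, e_inv M (hs y), h1,
          neg_add_cancel]
      exact ⟨(y, ⟨_, h2⟩), Subtype.ext (mul_inv_cancel_left _ _)⟩
  have h2 := Nat.card_congr (Equiv.ofBijective f hf)
  rw [Nat.card_prod, Nat.card_fun, Nat.card_fun, Nat.card_fin, Nat.card_fin, Nat.card_zmod] at h2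
  exact h2.symm

end card

/-! ### Position -/

section pos

variable {G : Type u} [Group G]

theorem cj_commutator (n : G) (A B : Subgroup G) : cj n ⁅A, B⁆ = ⁅cj n A, cj n B⁆ := by
  change Subgroup.map _ _ = _
  rw [Subgroup.map_commutator]

variable [Finite G]

/-- **Normal position**, with `|[V, V']|`. -/
theorem exists_pair_comm (hc : IsCharacteristicTwoType G) (S : Sylow 2 G) {P₁ P₂ : Subgroup G} {x : G}
    (h : Mutual (S : Subgroup G) P₁ P₂ x) :
    ∃ y : G, Pair S (sy y S) P₁ (cj y P₂) ∧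
      Nat.card ↥⁅zl (S : Subgroup G) P₁, zl ((sy y S : Sylow 2 G) : Subgroup G) (cj y P₂)⁆ =
        Nat.card ↥⁅zl (S : Subgroup G) P₁, cj x (zl (S : Subgroup G) P₂)⁆ := by
  have hV2 : IsPGroup 2 (zl (S : Subgroup G) P₁) := zl_isPGroup hc S h.star₁.isLoc
  have hW2 : IsPGroup 2 (zl (S : Subgroup G) P₂) := zl_isPGroup hc S h.star₂.isLoc
  have hSV : (S : Subgroup G) ≤ normalizer (zl (S : Subgroup G) P₁ : Set G) :=
    h.star₁.le.trans (MinSimple.VModule.le_normalizer_zl _ _)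
  have hSW : (S : Subgroup G) ≤ normalizer (zl (S : Subgroup G) P₂ : Set G) :=
    h.star₂.le.trans (MinSimple.VModule.le_normalizer_zl _ _)
  have le₁ : zl (S : Subgroup G) P₁ ≤ normalizer ((cj x (zl (S : Subgroup G) P₂) : Subgroup G) : Set G) := h.le₁
  have le₂ : cj x (zl (S : Subgroup G) P₂) ≤ normalizer (zl (S : Subgroup G) P₁ : Set G) := h.le₂
  have hne : ⁅zl (S : Subgroup G) P₁, cj x (zl (S : Subgroup G) P₂)⁆ ≠ ⊥ := h.ne
  obtain ⟨n, hn, h1⟩ := exists_conj_le S hSV (isPGroup_cj x hW2) le₂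
  rw [cj_cj] at h1
  have e1 : cj n (zl (S : Subgroup G) P₁) = zl (S : Subgroup G) P₁ := cj_eq_of_mem_normalizer hn
  have h2 : zl (S : Subgroup G) P₁ ≤ normalizer ((cj (n * x) (zl (S : Subgroup G) P₂) : Subgroup G) : Set G) := by
    have := cj_mono n le₁
    rwa [e1, cj_normalizer, cj_cj] at this
  have h3 : ((sy (n * x) S : Sylow 2 G) : Subgroup G) ≤
      normalizer ((cj (n * x) (zl (S : Subgroup G) P₂) : Subgroup G) : Set G) := by
    rw [sy_coe, ← cj_normalizer]
    exact cj_mono _ hSW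
  obtain ⟨m, hm, h4⟩ := exists_conj_le (sy (n * x) S) h3 hV2 h2
  have hm' : m⁻¹ ∈ normalizer ((cj (n * x) (zl (S : Subgroup G) P₂) : Subgroup G) : Set G) := inv_mem hm
  have e2 : cj (m⁻¹ * (n * x)) (zl (S : Subgroup G) P₂) = cj (n * x) (zl (S : Subgroup G) P₂) := by
    rw [← cj_cj]
    exact cj_eq_of_mem_normalizer hm'
  have h5 : zl (S : Subgroup G) P₁ ≤ ((sy (m⁻¹ * (n * x)) S : Sylow 2 G) : Subgroup G) := by
    rw [sy_coe, ← cj_cj]
    rw [sy_coe, cj_le_iff] at h4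
    exact h4
  have e3 : ⁅zl (S : Subgroup G) P₁, cj (m⁻¹ * (n * x)) (zl (S : Subgroup G) P₂)⁆ =
      cj n ⁅zl (S : Subgroup G) P₁, cj x (zl (S : Subgroup G) P₂)⁆ := by
    rw [cj_commutator, e1, cj_cj, e2]
  have hcard : Nat.card ↥⁅zl (S : Subgroup G) P₁, cj (m⁻¹ * (n * x)) (zl (S : Subgroup G) P₂)⁆ =
      Nat.card ↥⁅zl (S : Subgroup G) P₁, cj x (zl (S : Subgroup G) P₂)⁆ := by
    rw [e3, card_cj]
  have hcomm : ⁅zl (S : Subgroup G) P₁, cj (m⁻¹ * (n * x)) (zl (S : Subgroup G) P₂)⁆ ≠ ⊥ := by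
    intro h0
    apply hne
    rw [h0, Subgroup.card_bot] at hcard
    exact Subgroup.card_eq_one.1 hcard.symm
  refine ⟨m⁻¹ * (n * x), ⟨h.star₁, ?_, ?_, h5, ?_⟩, ?_⟩
  · rw [sy_coe]
    exact isParS_cj h.star₂ _
  · rw [sy_coe, zl_cj, e2]
    exact h1
  · rw [sy_coe, zl_cj]
    exact hcomm
  · rw [sy_coe, zl_cj]
    exact hcard

/-- An element of `V'` not centralising `V` is a transvection of `V`, if `|[V, V']| = 2`. -/
theorem transv {V V' : Subgroup G} (hVc : ∀ a ∈ V, ∀ b ∈ V, a * b = b * a) (hn : V' ≤ normalizer (V : Set G))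
    (hc : Nat.card ↥⁅V, V'⁆ = 2) {t : G} (ht : t ∈ V') (htV : t ∉ centralizer (V : Set G)) :
    Nat.card V = 2 * Nat.card ↥(V ⊓ centralizer {t}) := by
  have hV : ∀ v ∈ V, t * v * t⁻¹ ∈ V := fun v hv => (mem_normalizer_iff.1 (hn ht) v).1 hv
  have hmem : ∀ v ∈ V, v * t * v⁻¹ * t⁻¹ ∈ ⁅V, V'⁆ := fun v hv => commutator_mem_commutator hv ht
  have htwo : ∀ a ∈ ⁅V, V'⁆, ∀ b ∈ ⁅V, V'⁆, a ≠ 1 → b ≠ 1 → a = b := by
    intro a ha b hb h1 h2
    obtain ⟨x, y, -, hxy⟩ := Nat.card_eq_two_iff.1 hc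
    have key : ∀ z : ↥⁅V, V'⁆, z = x ∨ z = y := fun z => by
      have : z ∈ ({x, y} : Set ↥⁅V, V'⁆) := hxy ▸ Set.mem_univ z
      simpa using this
    have ka := key ⟨a, ha⟩
    have kb := key ⟨b, hb⟩
    have k1 := key 1
    have na : (⟨a, ha⟩ : ↥⁅V, V'⁆) ≠ 1 := fun h => h1 (congrArg Subtype.val h)
    have nb : (⟨b, hb⟩ : ↥⁅V, V'⁆) ≠ 1 := fun h => h2 (congrArg Subtype.val h)
    have : (⟨a, ha⟩ : ↥⁅V, V'⁆) = ⟨b, hb⟩ := by
      rcases k1 with k1 | k1
      · rcases ka with ka | ka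
        · exact absurd (ka.trans k1.symm) na
        · rcases kb with kb | kb
          · exact absurd (kb.trans k1.symm) nb
          · rw [ka, kb]
      · rcases ka with ka | ka
        · rcases kb with kb | kb
          · rw [ka, kb]
          · exact absurd (kb.trans k1.symm) nb
        · exact absurd (ka.trans k1.symm) na
    exact congrArg Subtype.val this
  obtain ⟨a, ha, hat⟩ : ∃ a ∈ V, a * t ≠ t * a := by
    by_contra hcon
    push Not at hcon
    exact htV (mem_centralizer_iff.2 fun v hv => hcon v hv)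
  have hat1 : a * t * a⁻¹ * t⁻¹ ≠ 1 := by
    intro h0
    apply hat
    calc a * t = (a * t * a⁻¹ * t⁻¹) * (t * a) := by group
      _ = t * a := by rw [h0, one_mul]
  have h1 : ((V ⊓ centralizer {t}).subgroupOf V).index = 2 := by
    rw [index_eq_two_iff]
    refine ⟨⟨a, ha⟩, fun b => ?_⟩
    have hb := b.2
    have key : ∀ c : V, c ∈ (V ⊓ centralizer {t}).subgroupOf V ↔ (c : G) * t * (c : G)⁻¹ * t⁻¹ = 1 := by
      intro c
      rw [mem_subgroupOf, mem_inf, mem_centralizer_singleton_iff]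
      constructor
      · rintro ⟨-, h⟩
        rw [h, mul_inv_cancel_right, mul_inv_cancel]
      · intro h
        refine ⟨c.2, ?_⟩
        calc (c : G) * t = ((c : G) * t * (c : G)⁻¹ * t⁻¹) * (t * c) := by group
          _ = t * c := by rw [h, one_mul]
    rw [key, key]
    -- `[ba, t] = [b, t] [a, t]`
    have e : ((b * ⟨a, ha⟩ : V) : G) * t * ((b * ⟨a, ha⟩ : V) : G)⁻¹ * t⁻¹ =
        ((b : G) * t * (b : G)⁻¹ * t⁻¹) * (a * t * a⁻¹ * t⁻¹) := by
      have h2 : a * t * a⁻¹ * t⁻¹ ∈ V := by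
        have h3 : a * t * a⁻¹ * t⁻¹ = a * (t * a⁻¹ * t⁻¹) := by group
        rw [h3]
        exact mul_mem ha (hV _ (inv_mem ha))
      have h3 : t * (b : G)⁻¹ * t⁻¹ ∈ V := hV _ (inv_mem hb)
      have h4 : (b : G) * (a * t * a⁻¹ * t⁻¹) * (t * (b : G)⁻¹ * t⁻¹) =
          (b : G) * (t * (b : G)⁻¹ * t⁻¹) * (a * t * a⁻¹ * t⁻¹) := by
        rw [mul_assoc, hVc _ h2 _ h3, ← mul_assoc]
      calc ((b * ⟨a, ha⟩ : V) : G) * t * ((b * ⟨a, ha⟩ : V) : G)⁻¹ * t⁻¹
          = (b : G) * (a * t * a⁻¹ * t⁻¹) * (t * (b : G)⁻¹ * t⁻¹) := by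
            rw [Subgroup.coe_mul]; group
        _ = _ := by rw [h4]; group
    rw [e]
    by_cases hb1 : (b : G) * t * (b : G)⁻¹ * t⁻¹ = 1
    · rw [hb1, one_mul]
      exact Or.inr ⟨rfl, hat1⟩
    · refine Or.inl ⟨?_, hb1⟩
      have h2 := htwo _ (hmem _ hb) _ (hmem _ ha) hb1 hat1
      rw [h2]
      have h3 : (a * t * a⁻¹ * t⁻¹) * (a * t * a⁻¹ * t⁻¹) ∈ ⁅V, V'⁆ := mul_mem (hmem _ ha) (hmem _ ha)
      by_contra h4
      have h5 := htwo _ h3 _ (hmem _ ha) h4 hat1
      exact hat1 (left_eq_mul.1 h5.symm)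
  have h2 := card_mul_index ((V ⊓ centralizer {t}).subgroupOf V)
  rw [h1, Nat.card_congr (subgroupOfEquivOfLe (inf_le_left : V ⊓ centralizer {t} ≤ V)).toEquiv] at h2
  rw [← h2, mul_comm]

end pos

/-! ### The three types -/

/-- The sockets used for the exits. -/
structure Sk (K : Cls.{u}) : Prop where
  pos : PosExit.{u}
  line : CvLine K
  mix : CvMix K
  a2 : CvOneA2 K
  twoA : CvTwoA K
  twoB : CvTwoB K

section types

variable {K : Cls.{u}} {G : Type u} [Group G] [Finite G]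

/-- two members of type `S₅`, not free -/
theorem five_known (hX : PosExit.{u}) (hG : Ctx G) (S : Sylow 2 G) (hF : Full (S : Subgroup G))
    (hI : AllIn (S : Subgroup G)) (hT : AllTyped (S : Subgroup G)) {P₁ P₂ : Subgroup G} {x : G}
    (hm : Mutual (S : Subgroup G) P₁ P₂ x) (hnf : ¬ (Free (S : Subgroup G) P₁ ∧ Free (S : Subgroup G) P₂))
    (hS : IsSym (S : Subgroup G) P₁ 1 2) (hS' : IsSym (S : Subgroup G) P₂ 1 2) : IsKnownSimple' G := by
  obtain ⟨y, hp⟩ := S5.Main.exists_pos hG.char2 S hT hm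
  obtain ⟨A, ε, hs⟩ := F4Leaf.Split.splitStep G hG.char2 S P₁ 2 le_rfl hp.pair.star₁ hS
  have c1 := hs.card_zc hG.char2 hp.pair.star₁ (by omega)
  obtain ⟨A₂, ε₂, hs₂⟩ := F4Leaf.Split.splitStep G hG.char2 S P₂ 2 le_rfl hp.pair.star₂ hS'
  have c2 := hs₂.card_zc hG.char2 hp.pair.star₂ (by omega)
  have hne : cv (S : Subgroup G) P₁ ≠ ⊥ := by
    intro h0
    apply hnf
    have e : Nat.card (cv (S : Subgroup G) P₁) = Nat.card (cv (S : Subgroup G) P₂) := by omega
    rw [h0, Subgroup.card_bot] at e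
    exact ⟨h0, Subgroup.card_eq_one.mp e.symm⟩
  have hl := F4Leaf.Main.labTwoZ hp hs hs₂
  by_cases hC : S5.Main.Cen (zl (S : Subgroup G) P₁) (cj y (zl (S : Subgroup G) P₂))
  · exact F4Leaf.NoWrFree.cen_known hX G hG S hF hI hT P₁ P₂ y A ε A₂ ε₂ hl hC
  · exact (F4Leaf.NoWrFree.nc_false G hG S P₁ P₂ y A ε A₂ ε₂ hl hne hC).elim

/-- two members with `|V| = 2 |Z|`, both with `C_V(O²(P)) ≠ 1` -/
theorem nat_one_known (hX : PosExit.{u}) (hG : Ctx G) (S : Sylow 2 G) (hF : Full (S : Subgroup G))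
    (hI : AllIn (S : Subgroup G)) (hT : AllTyped (S : Subgroup G)) {P₁ P₂ : Subgroup G} {x : G}
    (h : HOne.Main.NonFree (S : Subgroup G) P₁ P₂ x)
    (c₁ : Nat.card (zl (S : Subgroup G) P₁) = 2 * Nat.card (zc (S : Subgroup G)))
    (c₂ : Nat.card (zl (S : Subgroup G) P₂) = 2 * Nat.card (zc (S : Subgroup G))) : IsKnownSimple' G := by
  obtain ⟨P, V, ι, R', o, r, z, hp⟩ := F4Leaf.NoWrFree.exists_pos hG S hT h c₁ c₂
  exact hX G hG S hF hI P V ι R' o r z hp

/-- `V_i` unmixed, two factors, `q = 2` -/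
theorem unM_two (sk : Sk K) {S : Sylow 2 G} (hH : HypN K S) {P : Subgroup G} {F : Type} [Field F] [Finite F]
    [CharP F 2] {V D : Subgroup G} (M : NatD F S P V D 2) (i : Fin 2) (hD : D ≠ ⊥) (hu : UnM M i)
    (hq : Nat.card F = 2) : IsKnownSimple' G := by
  by_cases hd : 2 ∣ (NV.stab M.toNatV i).relIndex (normalizer (NV.line M.toNatV i : Set G))
  · by_cases hT : ∃ T₁ : Sylow 2 G, NV.stab M.toNatV i ≤ T₁ ∧
        (T₁ : Subgroup G) ≤ normalizer (NV.fac M.toNatV i : Set G) ⊓ normalizer (NV.line M.toNatV i : Set G)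
    · obtain ⟨T₁, h5, h6⟩ := hT
      exact sk.twoB G S hH P F V D M i hD hu T₁ h5 h6
    · exact (sk.twoA G S hH P F V D M i hD hu hd hT).elim
  · exact (sk.a2 G S hH P F V D M i hD hu hd hq).elim

/-- two natural members with two factors, `q = 2`, not free -/
theorem nat_two_known (sk : Sk K) {S S' : Sylow 2 G} (hH : HypN K S) {P P' : Subgroup G} (hp : Pair S S' P P')
    {F F' : Type} [Field F] [Finite F] [CharP F 2] [Field F'] [Finite F'] [CharP F' 2]
    (M₀ : NatK F (S : Subgroup G) P (zl (S : Subgroup G) P) (cv (S : Subgroup G) P) 2)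
    (M₀' : NatK F' (S' : Subgroup G) P' (zl (S' : Subgroup G) P') (cv (S' : Subgroup G) P') 2)
    (hF : Nat.card F = 2) (hF' : Nat.card F' = 2)
    (hf : ¬ (Free (S : Subgroup G) P ∧ Free (S' : Subgroup G) P')) : IsKnownSimple' G := by
  have hc := hH.ctx.char2
  have M := NatD.ofSplit hc hp.star M₀ (splitPar_two hc S hp.star M₀ (by omega) hF)
  have M' := NatD.ofSplit hc hp.star' M₀' (splitPar_two hc S' hp.star' M₀' (by omega) hF')
  have hD : cv (S : Subgroup G) P ≠ ⊥ ∨ cv (S' : Subgroup G) P' ≠ ⊥ := by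
    by_contra hcon
    push Not at hcon
    exact hf hcon
  obtain ⟨i, i', L⟩ := sk.line G S S' hH P P' hp F F' _ _ _ _ 2 M M' (by omega) le_rfl
  by_cases hu : UnM M i
  · exact unM_two sk hH M i
      (cv_ne_bot hH ⟨F, inferInstance, inferInstance, inferInstance, ⟨M₀⟩⟩ M L.le hu) hu hF
  by_cases hu' : UnM M' i'
  · have hle' := L.le'
    rw [L.eq'] at hle'
    exact unM_two sk (hH.conj S') M' i'
      (cv_ne_bot (hH.conj S') ⟨F', inferInstance, inferInstance, inferInstance, ⟨M₀'⟩⟩ M' hle' hu') hu' hF'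
  exact sk.mix G S S' hH P P' hp F F' _ _ _ _ 2 M M' (by omega) le_rfl hD i i' L hu hu'

/-- a field with `|F| > 2` gives `|[V, V']| > 2`, if some element of `V'` moves `V / D` -/
theorem card_le_comm {T H V D A : Subgroup G} {F : Type} [Field F] [Finite F] (N : NatK F T H V D 1)
    (hn : A ≤ normalizer (V : Set G)) (hA : A ≤ T) (hoff : Off V A) {t : G} (ht : t ∈ A)
    (hmv : ∃ v ∈ V, t * v * t⁻¹ * v⁻¹ ∉ D) : Nat.card F ≤ Nat.card ↥⁅V, A⁆ := by
  obtain ⟨I, h1, -⟩ := N.off A hA hoff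
  obtain ⟨b, -, hb, -⟩ := h1 t ht
  have hV : ∀ v ∈ V, t * v * t⁻¹ ∈ V := fun v hv => (mem_normalizer_iff.1 (hn ht) v).1 hv
  have hinv : ∀ v ∈ V, N.e v⁻¹ = - N.e v := by
    intro v hv
    have h3 := N.mul v hv v⁻¹ (inv_mem hv)
    rw [mul_inv_cancel, S5.Nat.e_one N] at h3
    exact (neg_eq_of_add_eq_zero_right h3.symm).symm
  have key : ∀ v ∈ V, N.e (t * v * t⁻¹ * v⁻¹) 0 0 = b 0 * N.e v 0 1 ∧ N.e (t * v * t⁻¹ * v⁻¹) 0 1 = 0 := by
    intro v hv
    rw [N.mul _ (hV v hv) _ (inv_mem hv), hinv v hv, Pi.add_apply, Pi.add_apply, Pi.add_apply, Pi.neg_apply,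
      Pi.neg_apply, Pi.neg_apply, hb v hv 0, NatPair.ap_zero', NatPair.ap_one', up_00, up_01, up_10, up_11]
    constructor <;> ring
  have hb0 : b 0 ≠ 0 := by
    intro h0
    obtain ⟨v, hv, hvD⟩ := hmv
    apply hvD
    rw [← N.ker _ (mul_mem (hV v hv) (inv_mem hv))]
    funext i a
    obtain rfl : i = 0 := Subsingleton.elim _ _
    obtain ⟨k1, k2⟩ := key v hv
    rw [h0, zero_mul] at k1
    fin_cases a
    · exact k1
    · exact k2
  choose s hs hse using fun c : F => N.surj fun _ => ![0, c]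
  have hmem : ∀ c, t * s c * t⁻¹ * (s c)⁻¹ ∈ ⁅V, A⁆ := by
    intro c
    rw [commutator_comm]
    exact commutator_mem_commutator ht (hs c)
  refine Nat.card_le_card_of_injective (fun c : F => (⟨_, hmem c⟩ : ↥⁅V, A⁆)) fun c c' hcc => ?_
  have h2 : t * s c * t⁻¹ * (s c)⁻¹ = t * s c' * t⁻¹ * (s c')⁻¹ := congrArg Subtype.val hcc
  have h3 := (key _ (hs c)).1
  rw [h2, (key _ (hs c')).1, hse, hse] at h3
  exact (mul_left_cancel₀ hb0 h3).symm

/-- **The exits of T-T** (#21574): a mutual pair `(R, R^g)` with `|[V_R, V_R^g]| = 2`, `C_{V_R}(O²(R)) ≠ 1`,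
`|V_R| ≤ 16 |C_{V_R}(O²(R))|`. -/
theorem exit_small (sk : Sk K) {S : Sylow 2 G} (hH : HypN K S) {R : Subgroup G} {g : G}
    (hm : Mutual (S : Subgroup G) R R g)
    (hc : Nat.card ↥⁅zl (S : Subgroup G) R, cj g (zl (S : Subgroup G) R)⁆ = 2)
    (hcv : cv (S : Subgroup G) R ≠ ⊥)
    (h16 : Nat.card (zl (S : Subgroup G) R) ≤ 16 * Nat.card (cv (S : Subgroup G) R)) : IsKnownSimple' G := by
  have hG := hH.ctx.char2
  have hR := hm.star₁
  have hnf : ¬ (Free (S : Subgroup G) R ∧ Free (S : Subgroup G) R) := fun h => hcv h.1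
  obtain ⟨y, hp, hc'⟩ := exists_pair_comm hG S hm
  rw [hc] at hc'
  have hT := (hH.typed R R g hm).1
  have hT' : Typed ((sy y S : Sylow 2 G) : Subgroup G) (cj y R) := by
    rw [sy_coe]
    exact typed_cj hT y
  have hoff := hp.off hG hT'.noOver
  have hAc := (Half.amb_of_loc hG S hR.isLoc).comm
  obtain ⟨t, ht, htV⟩ := SetLike.not_le_iff_exists.1 hoff.ne
  have hn : zl ((sy y S : Sylow 2 G) : Subgroup G) (cj y R) ≤ normalizer (zl (S : Subgroup G) R : Set G) :=
    hp.le.trans (hR.le.trans (MinSimple.VModule.le_normalizer_zl _ _))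
  have htR : t ∈ R := hR.le (hp.le ht)
  have htv := transv hAc hn hc' ht htV
  obtain ⟨-, k, m, hk, hm1, ⟨M⟩⟩ := Tv.half (syl_of_sylow S hR.le) hR.toIsMinPar (hR.isLoc.char2 S hG)
    ⟨t, htR, htv⟩
  have hD : cv (S : Subgroup G) R ≤ zl (S : Subgroup G) R := inf_le_left
  have hpos : 0 < Nat.card (cv (S : Subgroup G) R) := Nat.card_pos
  have hcard := card_sym_eq M hD
  have hkm : 2 ^ m * k ≤ 4 := by
    rw [hcard, ← pow_mul] at h16
    have h1 : 2 ^ (2 ^ m * k) ≤ 2 ^ 4 := by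
      have := Nat.le_of_mul_le_mul_right h16 hpos
      simpa using this
    exact (Nat.pow_le_pow_iff_right (by norm_num)).1 h1
  have hm2 : m ≤ 2 := by
    by_contra hcon
    have h1 : 2 ^ 3 ≤ 2 ^ m := Nat.pow_le_pow_right (by norm_num) (by omega)
    nlinarith
  obtain rfl | rfl : m = 1 ∨ m = 2 := by omega
  · have hk2 : k ≤ 2 := by omega
    obtain rfl | rfl : k = 1 ∨ k = 2 := by omega
    · -- `k = m = 1`
      obtain ⟨A, ε, hs⟩ := F4Leaf.Split.exists_split hG hR le_rfl M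
      have c := hs.card_zc hG hR le_rfl
      have c1 : Nat.card (zl (S : Subgroup G) R) = 2 * Nat.card (zc (S : Subgroup G)) := by
        rw [hcard, c]
        norm_num
        omega
      exact nat_one_known sk.pos hH.ctx S hH.full hH.allIn hH.typed ⟨hm, hcv, hcv⟩ c1 c1
    · -- `k = 2`, `m = 1`
      have hcard4 : Nat.card (zl (S : Subgroup G) R) = 16 * Nat.card (cv (S : Subgroup G) R) := by
        rw [hcard]
        norm_num
      rcases hT.cases with ⟨k', hk', F, i1, i2, i3, ⟨M₀⟩⟩ | ⟨k', m', hk', hm', ⟨M'⟩⟩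
      · have h1 := card_nat_le M₀ hD
        rw [hcard4] at h1
        have h2 : Nat.card F ^ (2 * k') ≤ 16 := Nat.le_of_mul_le_mul_right h1 hpos
        have hF2 : 2 ≤ Nat.card F := Finite.one_lt_card
        have hk2 : k' ≤ 2 := by
          by_contra hcon
          have h3 : 2 ^ 6 ≤ 2 ^ (2 * k') := Nat.pow_le_pow_right (by norm_num) (by omega)
          have h4 : 2 ^ (2 * k') ≤ Nat.card F ^ (2 * k') := Nat.pow_le_pow_left hF2 _
          omega
        obtain rfl | rfl : k' = 1 ∨ k' = 2 := by omega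
        · -- `|F| = 4`, one factor
          exfalso
          have h3 := F4Leaf.NatStep.card_eq M₀ hD
          rw [hcard4] at h3
          have h4 : 16 = Nat.card F ^ 2 := Nat.eq_of_mul_eq_mul_right hpos h3
          have h5 : Nat.card F = 4 := by nlinarith
          obtain ⟨ε, hL⟩ := SwCv.exists_lb hG S hR hk hm1 M
          have hmv : ∃ v ∈ zl (S : Subgroup G) R, t * v * t⁻¹ * v⁻¹ ∉ cv (S : Subgroup G) R := by
            by_contra hcon
            push Not at hcon
            apply htV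
            refine mem_centralizer_iff.2 fun v hv => (hL.comm_of_one htR ?_ hv).symm
            intro w hw i x
            have h6 := (M.ker _ (hD (hcon w hw))).2 (hcon w hw)
            have h7 : M.e (t * w * t⁻¹) = M.e w := by
              have h8 := M.mul _ (hD (hcon w hw)) w hw
              rw [inv_mul_cancel_right, h6, zero_add] at h8
              exact h8
            rw [h7]
            rfl
          have h6 := card_le_comm M₀ hn hp.le hoff ht hmv
          rw [hc', h5] at h6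
          omega
        · -- `|F| = 2`, two factors
          have hF : Nat.card F = 2 := by
            by_contra hcon
            have h3 : 3 ^ (2 * 2) ≤ Nat.card F ^ (2 * 2) := Nat.pow_le_pow_left (by omega) _
            omega
          have M₀' : NatK F ((sy y S : Sylow 2 G) : Subgroup G) (cj y R)
              (zl ((sy y S : Sylow 2 G) : Subgroup G) (cj y R)) (cv ((sy y S : Sylow 2 G) : Subgroup G) (cj y R)) 2 := by
            rw [sy_coe, zl_cj, cv_cj]
            exact NatK.cj M₀ y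
          exact nat_two_known sk hH hp M₀ M₀' hF hF fun h => hcv h.1
      · have h1 := card_sym_eq M' hD
        rw [hcard4] at h1
        have h2 : 2 ^ 4 = (2 ^ 2 ^ m') ^ k' := Nat.eq_of_mul_eq_mul_right hpos h1
        rw [← pow_mul] at h2
        have h3 : 4 = 2 ^ m' * k' := Nat.pow_right_injective le_rfl h2
        have hm3 : m' = 2 := by
          by_contra hcon
          have h4 : 2 ^ 3 ≤ 2 ^ m' := Nat.pow_le_pow_right (by norm_num) (by omega)
          nlinarith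
        subst hm3
        obtain rfl : k' = 1 := by omega
        exact five_known sk.pos hH.ctx S hH.full hH.allIn hH.typed hm hnf ⟨M'⟩ ⟨M'⟩
  · -- `k = 1`, `m = 2`
    obtain rfl : k = 1 := by omega
    exact five_known sk.pos hH.ctx S hH.full hH.allIn hH.typed hm hnf ⟨M⟩ ⟨M⟩

end types

end Cfsg.Agent.Omega.IId.CvT
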